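import Groth.Agent.SGA7.K852.OmPts
import Mathlib.AlgebraicGeometry.Morphisms.FiniteType

/-!
# The Lie algebra of a group scheme locally of finite type over a field is finite-dimensional
-/

set_option autoImplicit false
universe u v
open CategoryTheory MonoidalCategory CartesianMonoidalCategory MonObj GrpObj AlgebraicGeometry
open Groth.Agent.Books Groth.Agent.Books.AffBridge LieS K852.OmPts

namespace Groth.Agent.SGA3t2b.K8.Fin

/-- A rational point of a scheme over a field lies in an affine open neighbourhood, and factors through it. -/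
theorem exists_chart {k : Type u} [Field k] {X : Over (Spec (CommRingCat.of k))} [LocallyOfFiniteType X.hom]
    (o : 𝟙_ (Over (Spec (CommRingCat.of k))) ⟶ X) :
    ∃ (C : Type u) (_ : CommRing C) (_ : Algebra k C) (_ : Algebra.FiniteType k C) (e : C →ₐ[k] k)
      (w : Spec (CommRingCat.of C) ⟶ X.left),
      IsOpenImmersion w ∧ w ≫ X.hom = Spec.map (CommRingCat.ofHom (algebraMap k C)) ∧
        Spec.map (CommRingCat.ofHom e.toRingHom) ≫ w = o.left := by
  let x₀ : Spec (CommRingCat.of k) := (⊥ : PrimeSpectrum k)
  obtain ⟨_, ⟨U, hU, rfl⟩, hxU, -⟩ := X.left.isBasis_affineOpens.exists_subset_of_mem_open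
    (Set.mem_univ (o.left x₀)) isOpen_univ
  let w : Spec Γ(X.left, U) ⟶ X.left := hU.fromSpec
  have hrange : Set.range o.left ⊆ Set.range w := by
    rintro _ ⟨y, rfl⟩
    have h1 : y = x₀ := Subsingleton.elim (α := PrimeSpectrum k) _ _
    rw [h1]
    rw [hU.range_fromSpec]
    exact hxU
  obtain ⟨c, hc⟩ : ∃ c : CommRingCat.of k ⟶ Γ(X.left, U), w ≫ X.hom = Spec.map c :=
    ⟨Spec.preimage (w ≫ X.hom), (Spec.map_preimage (w ≫ X.hom)).symm⟩
  let l : Spec (CommRingCat.of k) ⟶ Spec Γ(X.left, U) := IsOpenImmersion.lift w o.left hrange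
  have hl : l ≫ w = o.left := IsOpenImmersion.lift_fac _ _ _
  obtain ⟨ε, hε⟩ : ∃ ε : Γ(X.left, U) ⟶ CommRingCat.of k, l = Spec.map ε := ⟨Spec.preimage l, by simp⟩
  let _ : Algebra k Γ(X.left, U) := c.hom.toAlgebra
  have h1 : Spec.map ε ≫ Spec.map c = 𝟙 _ := by
    rw [← hc, ← hε, ← Category.assoc, hl]
    exact Over.w o
  rw [← Spec.map_comp, ← Spec.map_id] at h1
  have h2 := Spec.map_injective h1
  refine ⟨Γ(X.left, U), inferInstance, c.hom.toAlgebra, ?_, { ε.hom with commutes' := fun z => ?_ }, w, inferInstance, hc, ?_⟩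
  · have h3 : LocallyOfFiniteType (Spec.map c) := by rw [← hc]; infer_instance
    rw [HasRingHomProperty.Spec_iff (P := @LocallyOfFiniteType)] at h3
    exact h3
  · exact congrArg (fun g : CommRingCat.of k ⟶ CommRingCat.of k => g.hom z) h2
  · change Spec.map ε ≫ w = _
    rw [← hε, hl]

/-- A point derivation is determined by its values on generators. -/
theorem derAt_ext {k : Type u} [Field k] {C : Type u} [CommRing C] [Algebra k C]
    {e : C →ₐ[k] k} (s : Set C) (hs : Algebra.adjoin k s = ⊤) {D D' : DerAt e k}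
    (h : ∀ x ∈ s, D.1 x = D'.1 x) : D = D' := by
  refine Subtype.ext (LinearMap.ext fun c => ?_)
  have hc : c ∈ Algebra.adjoin k s := by rw [hs]; trivial
  induction hc using Algebra.adjoin_induction with
  | mem x hx => exact h x hx
  | algebraMap r =>
    rw [Algebra.algebraMap_eq_smul_one, map_smul, map_smul, derAt_one D, derAt_one D']
  | add x y _ _ hx hy => rw [map_add, map_add, hx, hy]
  | mul x y _ _ hx hy => rw [derAt_mul, derAt_mul, hx, hy]

/-- The Lie algebra of a group scheme locally of finite type over a field is finite-dimensional. -/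
theorem finite_model (k : Type u) [Field k] (G : Over (Spec (CommRingCat.of k))) [GrpObj G]
    [LocallyOfFiniteType G.hom] (L : Type v) [LieRing L] [LieAlgebra k L]
    (m : LieS.Model G k (Spec.map (CommRingCat.ofHom (algebraMap k k))) L) : Module.Finite k L := by
  obtain ⟨C, _, _, _, e, w, hw, hwX, hew⟩ := exists_chart (η[G])
  let u : SpecOver k C ⟶ G := Over.homMk w hwX
  have hu : specMap k e ≫ u = 1 := by
    apply Over.OverMorphism.ext
    rw [Over.comp_left]
    refine Eq.trans hew ?_
    rw [Hom.one_def, Over.comp_left]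
    have h1 : (toUnit (SpecOver k k)).left = 𝟙 _ := by
      have h2 := Over.w (toUnit (SpecOver k k))
      refine Eq.trans ?_ (h2.trans ?_)
      · exact (Category.comp_id _).symm
      · change Spec.map (CommRingCat.ofHom (algebraMap k k)) = _
        exact Spec.map_id _
    rw [h1]
    exact (Category.id_comp _).symm
  have huo : IsOpenImmersion u.left := hw
  have humono : Mono u := Over.mono_of_mono_left u
  obtain ⟨s, hs⟩ := ‹Algebra.FiniteType k C›.out
  choose D hD using fun v : LieS.Lie G k (fR k k) => exists_xD (e := e) (T := k) u hu v.1 v.2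
  have hadd : ∀ x y : L, D (m.e (Multiplicative.ofAdd (x + y))) =
      D (m.e (Multiplicative.ofAdd x)) + D (m.e (Multiplicative.ofAdd y)) := fun x y => by
    apply xD_injective u
    rw [xD_add u hu, hD, hD, hD, ofAdd_add, map_mul]
    rfl
  have hsmul : ∀ (t : k) (x : L), D (m.e (Multiplicative.ofAdd (t • x))) =
      t • D (m.e (Multiplicative.ofAdd x)) := fun t x => by
    apply xD_injective u
    rw [xD_smul u t, hD, hD, m.e_smul]
    rfl
  let φ : L →ₗ[k] (s → k) :=
    { toFun := fun x c => (D (m.e (Multiplicative.ofAdd x))).1 c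
      map_add' := fun x y => funext fun c => by
        rw [hadd]
        rfl
      map_smul' := fun t x => funext fun c => by
        rw [hsmul]
        rfl }
  refine Module.Finite.of_injective φ fun x y h => ?_
  have h0 : D (m.e (Multiplicative.ofAdd x)) = D (m.e (Multiplicative.ofAdd y)) :=
    derAt_ext (s : Set C) hs fun c hc => congrFun h ⟨c, hc⟩
  have h1 := congrArg (xD u) h0
  have h2 : (m.e (Multiplicative.ofAdd x)).1 = (m.e (Multiplicative.ofAdd y)).1 :=
    (hD (m.e (Multiplicative.ofAdd x))).symm.trans (h1.trans (hD (m.e (Multiplicative.ofAdd y))))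
  exact Multiplicative.ofAdd.injective (m.e.injective (Subtype.ext h2))

end Groth.Agent.SGA3t2b.K8.Fin
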