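import Groth.Agent.SGA3x.K10.MTKer
import Groth.Agent.SGA3x.K14.HomGa
import Groth.Agent.AlgGrp.K408.BcField
import Groth.Agent.AGF.K494.Basic
import Groth.Agent.Sga3B.KerGrp
import Groth.Agent.Localalg.GrpSchComp2
import Groth.Prelude.Def_Red

/-!
# Maximal tori of an extension by the additive group

* `mono_comp`: `a : 𝔾_a ⟶ G` the kernel of `p : G ⟶ C`, `T'` of multiplicative type: the composite `T' ⟶ G ⟶ C` is a
  monomorphism if `T' ⟶ G` is one;
* `isMaximalTorus`: if `T ⟶ G ⟶ C` is a maximal torus of `C`, then `T ⟶ G` is a maximal torus of `G`.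
-/

set_option autoImplicit false
universe u
open CategoryTheory MonoidalCategory CartesianMonoidalCategory MonObj GrpObj AlgebraicGeometry Limits

namespace Groth.Agent.SGA3t2b.K8.MTMax

open Groth.Agent Groth.Agent.Sga3B

variable {S : Scheme.{u}}

/-- tori are of multiplicative type -/
theorem isMultTypeFT_of_isTorus {T : Over S} [GrpObj T] (h : Red.IsTorus T) : SGA3x.IsMultTypeFT T := by
  obtain ⟨S', f, h1, h2, h3, h4⟩ := h
  refine ⟨S', f, h1, h2, h3, fun s' => ?_⟩
  obtain ⟨U, hU, r, hr⟩ := h4 s'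
  exact ⟨U, hU, Fin r → ℤ, inferInstance, inferInstance, hr⟩

/-- A homomorphism with trivial kernel is a monomorphism. -/
theorem mono_of_ker {T G : Over S} [GrpObj T] [GrpObj G] (f : T ⟶ G) [IsMonHom f]
    (h : ∀ (X : Over S) (x : X ⟶ T), x ≫ f = 1 → x = 1) : Mono f := by
  refine ⟨fun {X} x y hxy => ?_⟩
  have h1 : (x * y⁻¹) ≫ f = 1 := by
    rw [MonObj.mul_comp, GrpObj.inv_comp, hxy, mul_inv_cancel]
  exact mul_inv_eq_one.1 (h X _ h1)

/-- Groups of multiplicative type meet the additive group trivially (kernel form, `A` any group to which groups of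
multiplicative type have only the trivial homomorphism). -/
theorem mono_comp_gen {T' G C A : Over S} [GrpObj T'] [GrpObj G] [GrpObj C] [GrpObj A] [IsSeparated C.hom]
    [LocallyOfFiniteType C.hom] (hA : ∀ (H : Over S) [GrpObj H], SGA3x.IsMultTypeFT H → ∀ (u : H ⟶ A) [IsMonHom u], u = 1)
    (a : A ⟶ G) [IsMonHom a] [Mono a] (p : G ⟶ C) [IsMonHom p]
    (hk : AlgGrp.IsKernel a p) (j : T' ⟶ G) [IsMonHom j] [Mono j] (hT : SGA3x.IsMultTypeFT T') : Mono (j ≫ p) := by
  obtain ⟨gK, hK⟩ := KerGrp.exists_grpObj (j ≫ p)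
  have hKm : SGA3x.IsMultTypeFT (KerGrp.kerObj (j ≫ p)) := by
    refine K10.MTKer.isMultTypeFT_kernel hT (j ≫ p) (KerGrp.kerι (j ≫ p)) fun X x =>
      ⟨?_, fun h => KerGrp.exists_lift (j ≫ p) x h⟩
    rintro ⟨z, rfl⟩
    rw [Category.assoc, KerGrp.kerι_comp, MonObj.comp_one]
  have h0 : (KerGrp.kerι (j ≫ p) ≫ j) ≫ p = 1 := by
    rw [Category.assoc]
    exact KerGrp.kerι_comp (j ≫ p)
  obtain ⟨z, hz, -⟩ := ((AlgGrp.K408.BcField.isKernel_iff a p).1 hk).2 _ _ h0
  have hzm : IsMonHom z := K494.Basic.isMonHom_of_comp_mono z a (by rw [hz]; infer_instance)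
  have hz1 : z = 1 := hA _ hKm z
  have h1 : KerGrp.kerι (j ≫ p) = 1 := by
    rw [← cancel_mono j, ← hz, hz1, MonObj.one_comp, MonObj.one_comp]
  refine mono_of_ker _ fun X x hx => ?_
  obtain ⟨t, rfl⟩ := KerGrp.exists_lift (j ≫ p) x hx
  rw [h1, MonObj.comp_one]

/-- Groups of multiplicative type meet the additive group trivially. -/
theorem mono_comp {T' G C : Over S} [GrpObj T'] [GrpObj G] [GrpObj C] [IsSeparated C.hom]
    [LocallyOfFiniteType C.hom] (a : Red.Ga S ⟶ G) [IsMonHom a] [Mono a] (p : G ⟶ C) [IsMonHom p]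
    (hk : AlgGrp.IsKernel a p) (j : T' ⟶ G) [IsMonHom j] [Mono j] (hT : SGA3x.IsMultTypeFT T') : Mono (j ≫ p) :=
  mono_comp_gen (fun _ _ hH u _ => K14.HomGa.eq_one_of_isMultTypeFT hH u) a p hk j hT

/-- Tori of `C` lifted to an extension `G` of `C` by the additive group stay maximal. -/
theorem isMaximalTorus {T G C : Over S} [GrpObj T] [GrpObj G] [GrpObj C] [LocallyOfFiniteType C.hom]
    (a : Red.Ga S ⟶ G) [IsMonHom a] [Mono a] (p : G ⟶ C) [IsMonHom p] (hk : AlgGrp.IsKernel a p)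
    (i : T ⟶ G) [IsMonHom i] (hi : Red.IsMaximalTorus (i ≫ p)) : Red.IsMaximalTorus i := by
  obtain ⟨h1, h2, h3, h4⟩ := hi
  refine ⟨inferInstance, mono_of_mono i p, h3, fun s T' _ j _ _ f hT' hf => ?_⟩
  let v := Red.geomPt s
  have hsep : IsSeparated (Red.bc v C).hom := by
    have : LocallyOfFiniteType (Red.bc v C).hom := inferInstanceAs (LocallyOfFiniteType (pullback.snd _ _))
    exact Localalg.GrpSchComp2.isSeparated_hom _
  have hft : LocallyOfFiniteType (Red.bc v C).hom := inferInstanceAs (LocallyOfFiniteType (pullback.snd _ _))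
  have ham : IsMonHom (M := Red.bc v (Red.Ga S)) (N := Red.bc v G) ((Over.pullback v).map a) := inferInstance
  have hpm : IsMonHom (M := Red.bc v G) (N := Red.bc v C) ((Over.pullback v).map p) := inferInstance
  have hamo : Mono ((Over.pullback v).map a) := inferInstance
  have hkv := AlgGrp.K408.BcField.isKernel_bc v hk
  let c : Grp.mk (Red.bc v (Red.Ga S)) ≅ Grp.mk (Red.Ga (Spec (CommRingCat.of (AlgebraicClosure (S.residueField s))))) :=
    DsBc.constIso v Red.GaZ.{u}
  have hA : ∀ (H : Over (Spec (CommRingCat.of (AlgebraicClosure (S.residueField s))))) [GrpObj H],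
      SGA3x.IsMultTypeFT H → ∀ (u : H ⟶ Red.bc v (Red.Ga S)) [IsMonHom u], u = 1 := by
    intro H _ hH u _
    let c1 : Red.bc v (Red.Ga S) ⟶ Red.Ga (Spec (CommRingCat.of (AlgebraicClosure (S.residueField s)))) :=
      c.hom.hom.hom
    let c2 : Red.Ga (Spec (CommRingCat.of (AlgebraicClosure (S.residueField s)))) ⟶ Red.bc v (Red.Ga S) :=
      c.inv.hom.hom
    have i2 : IsMonHom c1 := c.hom.hom.isMonHom_hom
    have i3 : IsMonHom c2 := c.inv.hom.isMonHom_hom
    have e1 : c1 ≫ c2 = 𝟙 _ := congr(($(c.hom_inv_id)).hom.hom)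
    have h5 : u ≫ c1 = 1 := K14.HomGa.eq_one_of_isMultTypeFT hH _
    calc u = u ≫ c1 ≫ c2 := by rw [e1, Category.comp_id]
      _ = (u ≫ c1) ≫ c2 := (Category.assoc _ _ _).symm
      _ = 1 := by
        rw [h5]
        exact @MonObj.one_comp _ _ _ _ _ _ _ _ c2 i3
  have hmono : Mono (j ≫ (Over.pullback v).map p) :=
    mono_comp_gen hA ((Over.pullback v).map a) ((Over.pullback v).map p) hkv j (isMultTypeFT_of_isTorus hT')
  refine h4 s T' (j ≫ (Over.pullback v).map p) f hT' ?_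
  rw [← Category.assoc, hf, Functor.map_comp]

end Groth.Agent.SGA3t2b.K8.MTMax
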